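import Mathlib.RingTheory.Flat.EquationalCriterion
import Mathlib.LinearAlgebra.TensorProduct.Quotient
import Mathlib.RingTheory.Ideal.Quotient.Operations
import Mathlib.LinearAlgebra.Finsupp.LinearCombination
import Mathlib.RingTheory.Ideal.Maps

/-!
Relations of a module which is flat along a square-zero ideal.
-/

set_option autoImplicit false
universe u

namespace Groth.L15.ThickFP.Alg

open TensorProduct

/-- Nakayama for an ideal of square zero. -/
theorem le_of_le_sup_smul {B M : Type*} [CommRing B] [AddCommGroup M] [Module B M] {J : Ideal B} (hJ : J * J = ⊥)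
    {K S : Submodule B M} (h : K ≤ S ⊔ J • K) : K ≤ S := by
  refine h.trans (sup_le le_rfl ((Submodule.smul_mono le_rfl h).trans ?_))
  rw [Submodule.smul_sup, ← Submodule.mul_smul, hJ, Submodule.bot_smul]
  exact sup_le Submodule.smul_le_right bot_le

theorem mem_smul_top_of_one_tmul_eq_zero {A B M : Type u} [CommRing A] [CommRing B] [AddCommGroup M] [Module A M]
    [Algebra A B] (hsurj : Function.Surjective (algebraMap A B)) {m : M} (h : (1 : B) ⊗ₜ[A] m = 0) :
    m ∈ RingHom.ker (algebraMap A B) • (⊤ : Submodule A M) := by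
  let I := RingHom.ker (Algebra.ofId A B)
  let e : (A ⧸ I) ≃ₐ[A] B := Ideal.quotientKerAlgEquivOfSurjective (f := Algebra.ofId A B) hsurj
  have h1 := congrArg (LinearMap.rTensor M e.symm.toLinearMap) h
  rw [map_zero, LinearMap.rTensor_tmul] at h1
  have h2 := congrArg (TensorProduct.quotTensorEquivQuotSMul M I) h1
  rw [map_zero] at h2
  have h3 : (Submodule.Quotient.mk m : M ⧸ I • (⊤ : Submodule A M)) = 0 := by
    rw [← TensorProduct.quotTensorEquivQuotSMul_mk_one_tmul I m]
    exact (congrArg (fun t => TensorProduct.quotTensorEquivQuotSMul M I (t ⊗ₜ[A] m)) (map_one e.symm).symm).trans h2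
  exact (Submodule.Quotient.mk_eq_zero _).1 h3

theorem exists_lc_of_mem_smul {B M : Type*} [CommRing B] [AddCommGroup M] [Module B M] {ι : Type*} (s : ι → M)
    (hs : Submodule.span B (Set.range s) = ⊤) {J : Ideal B} {m : M} (hm : m ∈ J • (⊤ : Submodule B M)) :
    ∃ c : ι →₀ B, (∀ i, c i ∈ J) ∧ Finsupp.linearCombination B s c = m := by
  rw [← hs, ← Finsupp.range_linearCombination B] at hm
  refine Submodule.smul_induction_on hm ?_ ?_
  · rintro r hr x ⟨c, rfl⟩
    exact ⟨r • c, fun i => J.mul_mem_right (c i) hr, map_smul _ r c⟩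
  · rintro x y ⟨c, hc, rfl⟩ ⟨d, hd, rfl⟩
    exact ⟨c + d, fun i => J.add_mem (hc i) (hd i), map_add _ c d⟩

variable {A B M : Type u} [CommRing A] [CommRing B] [Algebra A B] [AddCommGroup M] [Module A M] [Module B M]
  [IsScalarTower A B M] (I : Ideal A)

/-- Coefficient vectors with entries in `I B`. -/
theorem exists_sum_of_coords {ι : Type u} [Finite ι] (c : ι →₀ B) (hc : ∀ i, c i ∈ I.map (algebraMap A B)) :
    ∃ (l : ℕ) (ε : Fin l → A) (b : Fin l → ι →₀ B), (∀ k, ε k ∈ I) ∧ c = ∑ k, ε k • b k := by
  classical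
  let S : Set (ι →₀ B) := {v | ∃ e ∈ I, ∃ b : ι →₀ B, v = algebraMap A B e • b}
  have h1 : ∀ i, ∀ r ∈ I.map (algebraMap A B), Finsupp.single i r ∈ Submodule.span B S := by
    intro i r hr
    have : I.map (algebraMap A B) ≤ (Submodule.span B S).comap (Finsupp.lsingle i) := by
      refine Ideal.span_le.2 ?_
      rintro _ ⟨e, he, rfl⟩
      refine Submodule.subset_span ⟨e, he, Finsupp.single i 1, ?_⟩
      simp [Algebra.smul_def]
    exact this hr
  have h2 : c ∈ Submodule.span B S := by
    rw [← Finsupp.sum_single c]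
    exact Submodule.sum_mem _ fun i _ => h1 i _ (hc i)
  obtain ⟨l, f, g, rfl⟩ := Submodule.mem_span_set'.1 h2
  choose e he b hb using fun k : Fin l => (g k).2
  refine ⟨l, e, fun k => f k • b k, he, Finset.sum_congr rfl fun k _ => ?_⟩
  rw [hb k, smul_comm, algebraMap_smul]

/-- Flatness: relations with coefficients in `I B` are combinations of relations. -/
theorem flat_inter [Module.Flat A M] {ι : Type u} [Finite ι] (s : ι → M)
    (hs : Submodule.span B (Set.range s) = ⊤) (c : ι →₀ B) (hc : ∀ i, c i ∈ I.map (algebraMap A B))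
    (h0 : Finsupp.linearCombination B s c = 0) :
    c ∈ I.map (algebraMap A B) • LinearMap.ker (Finsupp.linearCombination B s) := by
  classical
  obtain ⟨l, ε, b, hε, rfl⟩ := exists_sum_of_coords I c hc
  let f := Finsupp.linearCombination B s
  have h1 : ∑ k, ε k • f (b k) = 0 := by
    rw [← h0, map_sum]
    exact Finset.sum_congr rfl fun k _ => (LinearMap.map_smul_of_tower f (ε k) (b k)).symm
  obtain ⟨n, a, y, hy, ha⟩ := Module.Flat.isTrivialRelation_of_sum_smul_eq_zero h1
  have hsurj : ∀ m : M, ∃ d, f d = m := fun m => by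
    have : m ∈ LinearMap.range f := by rw [Finsupp.range_linearCombination, hs]; trivial
    exact this
  choose d hd using fun j => hsurj (y j)
  have e : ∑ k, ε k • b k = ∑ k, ε k • (b k - ∑ j, a k j • d j) := by
    simp only [smul_sub, Finset.smul_sum, smul_smul, Finset.sum_sub_distrib]
    rw [Finset.sum_comm]
    simp only [← Finset.sum_smul, ha, zero_smul, Finset.sum_const_zero, sub_zero]
  rw [e]
  refine Submodule.sum_mem _ fun k _ => ?_
  rw [← algebraMap_smul B (ε k)]
  refine Submodule.smul_mem_smul (Ideal.mem_map_of_mem _ (hε k)) ?_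
  rw [LinearMap.mem_ker, map_sub, sub_eq_zero, map_sum]
  refine (hy k).trans ?_
  refine Finset.sum_congr rfl fun j _ => ?_
  rw [LinearMap.map_smul_of_tower, hd]

end Groth.L15.ThickFP.Alg
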