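import Groth.Agent.L10.SecPres.Cover
import Groth.Prelude.Def_CohB1
import Groth.Agent.L20.ModStalk

/-!
Finite presentation in terms of germs.
-/

set_option autoImplicit false
set_option backward.isDefEq.respectTransparency false
set_option backward.isDefEq.respectTransparency.types false
set_option linter.style.haveILetI false
universe u

open CategoryTheory CategoryTheory.Limits AlgebraicGeometry TopologicalSpace Opposite

noncomputable section

namespace Groth.L15.ThickFP

open Groth.L10.SecPres Groth.L15.FlatCrit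
open Groth.L20.ModStalk (germ_smul)

variable {X : Scheme.{u}}

/-- Finitely many sections over `W` and relations which are exact on all germs. -/
structure GP (M : X.Modules) (W : X.Opens) where
  /-- number of generators -/
  I : Type u
  /-- number of relations -/
  R : Type u
  [finI : Finite I]
  [finR : Finite R]
  /-- generators -/
  s : I → Γ(M, W)
  /-- relations -/
  a : R → I →₀ Γ(X, W)
  gen : ∀ (y : X) (hy : y ∈ W),
    Submodule.span (X.presheaf.stalk y) (Set.range fun i => M.presheaf.germ W y hy (s i)) = ⊤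
  zero : ∀ j, Finsupp.linearCombination Γ(X, W) s (a j) = 0
  rel : ∀ (y : X) (hy : y ∈ W) (c : I →₀ X.presheaf.stalk y),
    Finsupp.linearCombination (X.presheaf.stalk y) (fun i => M.presheaf.germ W y hy (s i)) c = 0 →
      c ∈ Submodule.span (X.presheaf.stalk y)
        (Set.range fun j => Finsupp.mapRange (X.presheaf.germ W y hy).hom (map_zero _) (a j))

attribute [instance] GP.finI GP.finR

/-- Germs of combinations. -/
theorem germ_lc (M : X.Modules) {I : Type u} {V : X.Opens} (t : I → Γ(M, V)) {y : X} (hy : y ∈ V)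
    (c : I →₀ Γ(X, V)) :
    M.presheaf.germ V y hy (Finsupp.linearCombination Γ(X, V) t c) =
      Finsupp.linearCombination (X.presheaf.stalk y) (fun i => M.presheaf.germ V y hy (t i))
        (Finsupp.mapRange (X.presheaf.germ V y hy).hom (map_zero _) c) := by
  induction c using Finsupp.induction_linear with
  | zero => simp only [map_zero, Finsupp.mapRange_zero]
  | add c d hc hd => simp only [map_add, Finsupp.mapRange_add (map_add _), hc, hd]
  | single i r =>
    rw [Finsupp.mapRange_single, Finsupp.linearCombination_single, Finsupp.linearCombination_single, germ_smul]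

/-- A finitely supported family of germs comes from sections. -/
theorem exists_lift_germs {I : Type u} [Finite I] (y : X) (c : I →₀ X.presheaf.stalk y) (W : X.Opens) (hy : y ∈ W) :
    ∃ (V : X.Opens) (hyV : y ∈ V) (_ : V ≤ W) (d : I →₀ Γ(X, V)),
      Finsupp.mapRange (X.presheaf.germ V y hyV).hom (map_zero _) d = c := by
  classical
  cases nonempty_fintype I
  choose U hU r hr using fun i => X.presheaf.exists_germ_eq (c i)
  let V : X.Opens := W ⊓ Finset.univ.inf U
  have hV : ∀ i, V ≤ U i := fun i => inf_le_right.trans (Finset.inf_le (Finset.mem_univ i))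
  have hyV : y ∈ V := ⟨hy, by
    show y ∈ ((Finset.univ.inf U : X.Opens) : Set X)
    rw [Opens.coe_finset_inf, Finset.inf_eq_iInf]
    exact Set.mem_iInter₂.2 fun i _ => hU i⟩
  refine ⟨V, hyV, inf_le_left, Finsupp.equivFunOnFinite.symm fun i => X.presheaf.map (homOfLE (hV i)).op (r i),
    Finsupp.ext fun i => ?_⟩
  rw [Finsupp.mapRange_apply]
  exact (TopCat.Presheaf.germ_res_apply X.presheaf (homOfLE (hV i)) y hyV (r i)).trans (hr i)

theorem germ_rs (M : X.Modules) {V U : X.Opens} (h : V ⟶ U) {y : X} (hy : y ∈ V) (e : Γ(M, U)) :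
    M.presheaf.germ V y hy (rs (O := X.sheaf) M h e) = M.presheaf.germ U y (h.le hy) e :=
  TopCat.Presheaf.germ_res_apply M.presheaf h y hy e

theorem rs_one (M : X.Modules) (W : X.Opens) (e : Γ(M, W)) : rs (O := X.sheaf) M (𝟙 W) e = e :=
  congrArg (fun φ : M.presheaf.obj (op W) ⟶ M.presheaf.obj (op W) => φ e) (M.presheaf.map_id (op W))

theorem germ_rr {V U : X.Opens} (h : V ⟶ U) {y : X} (hy : y ∈ V) (e : Γ(X, U)) :
    X.presheaf.germ V y hy (rr X.sheaf h e) = X.presheaf.germ U y (h.le hy) e :=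
  TopCat.Presheaf.germ_res_apply X.presheaf h y hy e

theorem lcs_germ (M : X.Modules) {I : Type u} {U W : X.Opens} (g : U ⟶ W) (s : I → Γ(M, W))
    {y : X} (hy : y ∈ U) (c : I →₀ Γ(X, U)) :
    M.presheaf.germ U y hy (lcs (O := X.sheaf) M g s c) =
      Finsupp.linearCombination (X.presheaf.stalk y) (fun i => M.presheaf.germ W y (g.le hy) (s i))
        (Finsupp.mapRange (X.presheaf.germ U y hy).hom (map_zero _) c) :=
  (germ_lc M (fun i => rs (O := X.sheaf) M g (s i)) hy c).trans
    (congrArg (fun t => Finsupp.linearCombination (X.presheaf.stalk y) t _)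
      (funext fun i => germ_rs M g hy (s i)))

/-- Germs of the span of a family of coefficient vectors. -/
theorem mapRange_germ_mem {I R : Type u} {V W : X.Opens} (g : V ⟶ W) (a : R → I →₀ Γ(X, W)) {y : X} (hy : y ∈ V)
    {c : I →₀ X.sheaf.obj.obj (op V)}
    (hc : c ∈ Submodule.span (X.sheaf.obj.obj (op V)) (Set.range fun j => rR X.sheaf g (a j))) :
    Finsupp.mapRange (X.presheaf.germ V y hy).hom (map_zero _) c ∈ Submodule.span (X.presheaf.stalk y)
      (Set.range fun j => Finsupp.mapRange (X.presheaf.germ W y (g.le hy)).hom (map_zero _) (a j)) := by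
  induction hc using Submodule.span_induction with
  | mem x hx =>
    obtain ⟨j, rfl⟩ := hx
    refine Submodule.subset_span ⟨j, Finsupp.ext fun i => ?_⟩
    simp only [Finsupp.mapRange_apply]
    exact (germ_rr g hy _).symm
  | zero => rw [Finsupp.mapRange_zero]; exact zero_mem _
  | add x z _ _ hx hz => rw [Finsupp.mapRange_add (map_add _)]; exact add_mem hx hz
  | smul r x _ hx =>
    have : Finsupp.mapRange (X.presheaf.germ V y hy).hom (map_zero _) (r • x) =
        X.presheaf.germ V y hy r • Finsupp.mapRange (X.presheaf.germ V y hy).hom (map_zero _) x :=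
      Finsupp.ext fun i => by
        refine Eq.trans ?_ (Finsupp.smul_apply (b := X.presheaf.germ V y hy r) _ i).symm
        exact (congrArg (X.presheaf.germ V y hy).hom (Finsupp.smul_apply (b := r) x i)).trans
          (map_mul (X.presheaf.germ V y hy).hom r (x i))
    rw [this]
    exact Submodule.smul_mem _ _ hx

theorem exists_mem_covering {U : X.Opens} {S : Sieve U}
    (hS : S ∈ Opens.grothendieckTopology X U) {y : X} (hy : y ∈ U) :
    ∃ (V : X.Opens) (h : V ⟶ U), S h ∧ y ∈ V := hS y hy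

theorem gp_of_isFP {M : X.Modules} (hM : CohB1.IsFP M) (x : X) :
    ∃ W : X.Opens, x ∈ W ∧ Nonempty (GP M W) := by
  obtain ⟨S, hS, hP⟩ := (isFinitePresentation_iff (O := X.sheaf) (F := M)).1 hM ⊤
  obtain ⟨W, h, hW, hx⟩ := exists_mem_covering hS (show x ∈ (⊤ : X.Opens) from trivial)
  obtain ⟨P, hI, hR⟩ := hP h hW
  obtain ⟨a, ha1, ha2⟩ := P.isRel.exists_vec
  refine ⟨W, hx, ⟨{ I := P.I, R := P.R, s := P.s, a := a, gen := ?_, zero := ?_, rel := ?_ }⟩⟩
  · intro y hy
    rw [eq_top_iff]
    rintro e -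
    obtain ⟨U, hyU, e, rfl⟩ := TopCat.Presheaf.exists_germ_eq M.presheaf e
    let g : U ⊓ W ⟶ W := homOfLE inf_le_right
    obtain ⟨T, hT, hd⟩ := P.gen g (rs (O := X.sheaf) M (homOfLE inf_le_left : U ⊓ W ⟶ U) e)
    obtain ⟨V, k, hk, hyV⟩ := exists_mem_covering hT (show y ∈ U ⊓ W from ⟨hyU, hy⟩)
    obtain ⟨c, hc⟩ := (mem_span_iff_lcs (k ≫ g) P.s _).1 (hd k hk)
    have h1 := congrArg (M.presheaf.germ V y hyV) hc
    rw [lcs_germ, germ_rs, germ_rs] at h1
    rw [← h1]
    exact Finsupp.mem_span_range_iff_exists_finsupp.2 ⟨_, (Finsupp.linearCombination_apply _ _).symm⟩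
  · intro j
    have := ha1 j
    have e : lcs (O := X.sheaf) M (𝟙 W) P.s (a j) = Finsupp.linearCombination Γ(X, W) P.s (a j) :=
      congrArg (fun t => Finsupp.linearCombination Γ(X, W) t (a j)) (funext fun i => rs_one M _ _)
    exact e.symm.trans this
  · intro y hy c hc
    obtain ⟨V, hyV, hVW, d, hd⟩ := exists_lift_germs y c W hy
    have hz : M.presheaf.germ V y hyV (lcs (O := X.sheaf) M (homOfLE hVW) P.s d) = M.presheaf.germ V y hyV 0 := by
      rw [lcs_germ, hd, map_zero]
      exact hc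
    obtain ⟨V', hyV', i₁, i₂, he⟩ := TopCat.Presheaf.germ_eq M.presheaf y hyV hyV _ _ hz
    have hz' : lcs (O := X.sheaf) M (i₁ ≫ homOfLE hVW) P.s (rR X.sheaf i₁ d) = 0 := by
      rw [← rs_lcs]
      exact he.trans (map_zero _)
    obtain ⟨T, hT, hd'⟩ := ha2 (i₁ ≫ homOfLE hVW) _ hz'
    obtain ⟨V'', k, hk, hyV''⟩ := exists_mem_covering hT hyV'
    have h2 := mapRange_germ_mem _ a hyV'' (hd' k hk)
    rw [← hd]
    convert h2 using 1
    refine Finsupp.ext fun i => ?_
    simp only [Finsupp.mapRange_apply]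
    exact ((germ_rr k hyV'' _).trans (germ_rr i₁ _ _)).symm

theorem isFP_of_gp {M : X.Modules} (h : ∀ x : X, ∃ W : X.Opens, x ∈ W ∧ Nonempty (GP M W)) :
    CohB1.IsFP M := by
  refine (isFinitePresentation_iff (O := X.sheaf) (F := M)).2 fun U => ?_
  refine ⟨⟨fun V _ => ∃ W : X.Opens, V ≤ W ∧ Nonempty (GP M W), fun {V₁ V₂ f} hf g =>
    hf.elim fun W hW => ⟨W, g.le.trans hW.1, hW.2⟩⟩, fun y hy => ?_, fun V k hV => ?_⟩
  · obtain ⟨W, hyW, hW⟩ := h y
    exact ⟨U ⊓ W, homOfLE inf_le_left, ⟨W, inf_le_right, hW⟩, hy, hyW⟩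
  obtain ⟨W, hVW, ⟨P⟩⟩ := hV
  let v : V ⟶ W := homOfLE hVW
  have hgen : IsGen (O := X.sheaf) M W P.s := by
    intro U' g e
    refine ⟨⟨fun V' k => rs (O := X.sheaf) M k e ∈ Submodule.span Γ(X, V')
      (Set.range fun i => rs (O := X.sheaf) M (k ≫ g) (P.s i)), ?_⟩, fun z hz => ?_, fun _ _ hk => hk⟩
    · intro V₁ V₂ f hf k
      obtain ⟨c, hc⟩ := (mem_span_iff_lcs (O := X.sheaf) (f ≫ g) P.s _).1 hf
      refine (mem_span_iff_lcs (O := X.sheaf) ((k ≫ f) ≫ g) P.s _).2 ⟨rR X.sheaf k c, ?_⟩
      rw [← rs_rs, ← hc, rs_lcs, Category.assoc]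
    · obtain ⟨c, hc⟩ := Finsupp.mem_span_range_iff_exists_finsupp.1
        ((P.gen z (g.le hz)).ge (Submodule.mem_top (x := M.presheaf.germ U' z hz e)))
      obtain ⟨V', hzV', hV', d, hd⟩ := exists_lift_germs z c U' hz
      have h1 : M.presheaf.germ V' z hzV' (lcs (O := X.sheaf) M (homOfLE hV' ≫ g) P.s d) =
          M.presheaf.germ U' z hz e := by
        rw [lcs_germ, hd, Finsupp.linearCombination_apply]
        exact hc
      obtain ⟨V'', hzV'', i₁, i₂, he⟩ := TopCat.Presheaf.germ_eq M.presheaf z hzV' hz _ _ h1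
      refine ⟨V'', i₂, ?_, hzV''⟩
      refine (mem_span_iff_lcs (O := X.sheaf) (i₂ ≫ g) P.s _).2 ⟨rR X.sheaf i₁ d, ?_⟩
      rw [show i₂ = i₁ ≫ homOfLE hV' from Subsingleton.elim _ _, Category.assoc, ← rs_lcs]
      exact he.trans (congrArg (fun k => rs (O := X.sheaf) M k e) (Subsingleton.elim _ _))
  have hrel : IsRel (O := X.sheaf) M W P.s (fun j => lb X.sheaf W (P.a j)) := by
    refine isRel_of_vec _ (fun j => ?_) fun U' g c hc => ?_
    · refine Eq.trans ?_ (P.zero j)
      exact congrArg (fun t => Finsupp.linearCombination Γ(X, W) t (P.a j)) (funext fun i => rs_one M _ _)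
    refine ⟨⟨fun V' k => rR X.sheaf k c ∈ Submodule.span (X.sheaf.obj.obj (op V'))
      (Set.range fun j => rR X.sheaf (k ≫ g) (P.a j)), ?_⟩, fun z hz => ?_, fun _ _ hk => hk⟩
    · intro V₁ V₂ f hf k
      rw [← rR_rR]
      refine mem_span_map (rR X.sheaf k) ?_ hf
      rintro _ ⟨j, rfl⟩
      refine Submodule.subset_span ⟨j, ?_⟩
      rw [rR_rR, Category.assoc]
    · have h0 : Finsupp.linearCombination (X.presheaf.stalk z) (fun i => M.presheaf.germ W z (g.le hz) (P.s i))
          (Finsupp.mapRange (X.presheaf.germ U' z hz).hom (map_zero _) c) = 0 := by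
        rw [← lcs_germ M g P.s hz c, hc, map_zero]
      obtain ⟨e, he⟩ := Finsupp.mem_span_range_iff_exists_finsupp.1 (P.rel z (g.le hz) _ h0)
      obtain ⟨V', hzV', hV', d, hd⟩ := exists_lift_germs z e U' hz
      let r : P.I →₀ X.sheaf.obj.obj (op V') := Finsupp.linearCombination (X.sheaf.obj.obj (op V'))
        (fun j => rR X.sheaf (homOfLE hV' ≫ g) (P.a j)) d
      have hr : ∀ i, (X.presheaf.germ V' z hzV').hom (r i) = (X.presheaf.germ U' z hz).hom (c i) := by
        intro i
        have h1 := congrArg (fun t : P.I →₀ X.presheaf.stalk z => t i) he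
        simp only [Finsupp.mapRange_apply] at h1
        refine Eq.trans ?_ h1
        rw [← hd, Finsupp.sum_mapRange_index (by intro j; exact zero_smul _ _)]
        simp only [r, Finsupp.linearCombination_apply]
        rw [Finsupp.sum, Finsupp.sum]
        refine (congrArg _ (Finsupp.finset_sum_apply _ _ i)).trans ((map_sum _ _ _).trans
          (Eq.trans ?_ (Finsupp.finset_sum_apply _ _ i).symm))
        refine Finset.sum_congr rfl fun j _ => ?_
        refine (congrArg _ (Finsupp.smul_apply _ _ i)).trans ((map_mul _ _ _).trans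
          (Eq.trans ?_ (Finsupp.smul_apply (b := (X.presheaf.germ V' z hzV').hom (d j)) _ i).symm))
        exact congrArg (_ * ·) (germ_rr (homOfLE hV' ≫ g) hzV' _)
      classical
      cases nonempty_fintype P.I
      choose N hzN j₁ j₂ hN using fun i => TopCat.Presheaf.germ_eq X.presheaf z hzV' hz _ _ (hr i)
      let V'' : X.Opens := V' ⊓ Finset.univ.inf N
      have hle : ∀ i, V'' ≤ N i := fun i => inf_le_right.trans (Finset.inf_le (Finset.mem_univ i))
      refine ⟨V'', homOfLE (inf_le_left.trans hV'), ?_, hzV', ?_⟩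
      · show rR X.sheaf (homOfLE (inf_le_left.trans hV')) c ∈ Submodule.span (X.sheaf.obj.obj (op V'')) _
        have hs : rR X.sheaf (homOfLE (inf_le_left : V'' ≤ V')) r = rR X.sheaf (homOfLE (inf_le_left.trans hV')) c :=
          Finsupp.ext fun i => by
            rw [rR_apply, rR_apply, show (homOfLE (inf_le_left : V'' ≤ V') : V'' ⟶ V') = homOfLE (hle i) ≫ j₁ i from
              Subsingleton.elim _ _, show (homOfLE (inf_le_left.trans hV') : V'' ⟶ U') = homOfLE (hle i) ≫ j₂ i from
              Subsingleton.elim _ _, ← rr_rr, ← rr_rr]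
            exact congrArg (rr X.sheaf (homOfLE (hle i))) (hN i)
        rw [← hs]
        refine mem_span_map (rR X.sheaf (homOfLE (inf_le_left : V'' ≤ V'))) ?_
          (show r ∈ Submodule.span (X.sheaf.obj.obj (op V')) (Set.range fun j => rR X.sheaf (homOfLE hV' ≫ g) (P.a j)) from
            Finsupp.mem_span_range_iff_exists_finsupp.2 ⟨d, (Finsupp.linearCombination_apply _ _).symm⟩)
        rintro _ ⟨j, rfl⟩
        exact Submodule.subset_span ⟨j, by rw [rR_rR]; rfl⟩
      · show z ∈ ((Finset.univ.inf N : X.Opens) : Set X)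
        rw [Opens.coe_finset_inf, Finset.inf_eq_iInf]
        exact Set.mem_iInter₂.2 fun i _ => hzN i
  exact ⟨(⟨⟨P.I, P.s, hgen⟩, P.R, fun j => lb X.sheaf W (P.a j), hrel⟩ : SPres (O := X.sheaf) M W).res v,
    inferInstanceAs (Finite P.I), inferInstanceAs (Finite P.R)⟩

end Groth.L15.ThickFP
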