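import Groth.Agent.L15.ThickFP.Square

/-!
Finite presentation descends and ascends along a first order thickening.
-/

set_option autoImplicit false
set_option backward.isDefEq.respectTransparency false
set_option backward.isDefEq.respectTransparency.types false
set_option linter.style.haveILetI false
universe u

open CategoryTheory CategoryTheory.Limits AlgebraicGeometry TopologicalSpace Opposite

noncomputable section

namespace Groth.L15.ThickFP

open Groth.L20.ModStalk (germ_smul)

variable {X X' : Scheme.{u}} {i : X ⟶ X'} {M : X'.Modules} [IsClosedImmersion i]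

theorem φ_germ (x : X) {W : X'.Opens} (hx : i x ∈ W) (a : Γ(X', W)) :
    Groth.L00.PullStalk.φ i x (X'.presheaf.germ W (i x) hx a) = X.presheaf.germ (i ⁻¹ᵁ W) x hx (i.app W a) :=
  Scheme.Hom.germ_stalkMap_apply i W x hx a

/-- An open subset of the source is a preimage. -/
theorem exists_eq_preimage (i : X ⟶ X') [IsClosedImmersion i] (U : X.Opens) : ∃ V : X'.Opens, i ⁻¹ᵁ V = U := by
  obtain ⟨t, ht, he⟩ := i.isClosedEmbedding.isInducing.isOpen_iff.1 U.2
  exact ⟨⟨t, ht⟩, Opens.ext he⟩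

/-- Agreement of germs spreads. -/
theorem exists_nhd_germ_eq {F : X.Modules} {κ : Type u} [Finite κ] {U U' : X.Opens} (s : κ → Γ(F, U))
    (t : κ → Γ(F, U')) {x : X} (hx : x ∈ U) (hx' : x ∈ U')
    (h : ∀ k, F.presheaf.germ U x hx (s k) = F.presheaf.germ U' x hx' (t k)) :
    ∃ V : X'.Opens, i x ∈ V ∧ ∀ z, i z ∈ V → ∀ (k : κ) (hz : z ∈ U) (hz' : z ∈ U'),
      F.presheaf.germ U z hz (s k) = F.presheaf.germ U' z hz' (t k) := by
  classical
  cases nonempty_fintype κ
  choose N hN j₁ j₂ he using fun k => TopCat.Presheaf.germ_eq F.presheaf x hx hx' _ _ (h k)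
  choose V hV using fun k => exists_eq_preimage i (N k)
  refine ⟨Finset.univ.inf V, ?_, fun z hz k hzU hzU' => ?_⟩
  · show i x ∈ ((Finset.univ.inf V : X'.Opens) : Set X')
    rw [Opens.coe_finset_inf, Finset.inf_eq_iInf]
    exact Set.mem_iInter₂.2 fun k _ => (hV k).ge (hN k)
  · have hzN : z ∈ N k := (hV k).le (Finset.inf_le (f := V) (Finset.mem_univ k) hz)
    rw [← TopCat.Presheaf.germ_res_apply F.presheaf (j₁ k) z hzN (s k),
      ← TopCat.Presheaf.germ_res_apply F.presheaf (j₂ k) z hzN (t k)]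
    exact congrArg (F.presheaf.germ (N k) z hzN) (he k)

/-- Agreement of germs of functions spreads. -/
theorem exists_nhd_germ_eq' {κ : Type u} [Finite κ] {U U' : X.Opens} (s : κ → Γ(X, U))
    (t : κ → Γ(X, U')) {x : X} (hx : x ∈ U) (hx' : x ∈ U')
    (h : ∀ k, X.presheaf.germ U x hx (s k) = X.presheaf.germ U' x hx' (t k)) :
    ∃ V : X'.Opens, i x ∈ V ∧ ∀ z, i z ∈ V → ∀ (k : κ) (hz : z ∈ U) (hz' : z ∈ U'),
      X.presheaf.germ U z hz (s k) = X.presheaf.germ U' z hz' (t k) := by
  classical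
  cases nonempty_fintype κ
  choose N hN j₁ j₂ he using fun k => TopCat.Presheaf.germ_eq X.presheaf x hx hx' _ _ (h k)
  choose V hV using fun k => exists_eq_preimage i (N k)
  refine ⟨Finset.univ.inf V, ?_, fun z hz k hzU hzU' => ?_⟩
  · show i x ∈ ((Finset.univ.inf V : X'.Opens) : Set X')
    rw [Opens.coe_finset_inf, Finset.inf_eq_iInf]
    exact Set.mem_iInter₂.2 fun k _ => (hV k).ge (hN k)
  · have hzN : z ∈ N k := (hV k).le (Finset.inf_le (f := V) (Finset.mem_univ k) hz)
    rw [← TopCat.Presheaf.germ_res_apply X.presheaf (j₁ k) z hzN (s k),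
      ← TopCat.Presheaf.germ_res_apply X.presheaf (j₂ k) z hzN (t k)]
    exact congrArg (X.presheaf.germ (N k) z hzN) (he k)

/-- Finitely many germs lift to one open. -/
theorem exists_common_lift (M : X'.Modules) {κ : Type u} [Finite κ] {y : X'} (m : κ → M.presheaf.stalk y) :
    ∃ (V : X'.Opens) (hy : y ∈ V) (t : κ → Γ(M, V)), ∀ k, M.presheaf.germ V y hy (t k) = m k := by
  classical
  cases nonempty_fintype κ
  choose U hU t ht using fun k => TopCat.Presheaf.exists_germ_eq M.presheaf (m k)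
  have hy : y ∈ Finset.univ.inf U := by
    show y ∈ ((Finset.univ.inf U : X'.Opens) : Set X')
    rw [Opens.coe_finset_inf, Finset.inf_eq_iInf]
    exact Set.mem_iInter₂.2 fun k _ => hU k
  refine ⟨_, hy, fun k => M.presheaf.map (homOfLE (Finset.inf_le (Finset.mem_univ k))).op (t k), fun k => ?_⟩
  exact (TopCat.Presheaf.germ_res_apply M.presheaf _ y hy (t k)).trans (ht k)

/-- Finitely many germs of functions lift to one open. -/
theorem exists_common_lift' {κ : Type u} [Finite κ] {y : X'} (m : κ → X'.presheaf.stalk y) :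
    ∃ (V : X'.Opens) (hy : y ∈ V) (t : κ → Γ(X', V)), ∀ k, X'.presheaf.germ V y hy (t k) = m k := by
  classical
  cases nonempty_fintype κ
  choose U hU t ht using fun k => TopCat.Presheaf.exists_germ_eq X'.presheaf (m k)
  have hy : y ∈ Finset.univ.inf U := by
    show y ∈ ((Finset.univ.inf U : X'.Opens) : Set X')
    rw [Opens.coe_finset_inf, Finset.inf_eq_iInf]
    exact Set.mem_iInter₂.2 fun k _ => hU k
  refine ⟨_, hy, fun k => X'.presheaf.map (homOfLE (Finset.inf_le (Finset.mem_univ k))).op (t k), fun k => ?_⟩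
  exact (TopCat.Presheaf.germ_res_apply X'.presheaf _ y hy (t k)).trans (ht k)

theorem isFP_pullback (hM : CohB1.IsFP M) : CohB1.IsFP ((Scheme.Modules.pullback i).obj M) := by
  refine isFP_of_gp fun x => ?_
  obtain ⟨W, hW, ⟨P⟩⟩ := gp_of_isFP hM (i x)
  refine ⟨i ⁻¹ᵁ W, hW, ⟨{
    I := P.I,
    R := P.R,
    s := fun k =>
      η i M
        W (P.s k),
    a := fun j => Finsupp.mapRange (i.app W).hom (map_zero _) (P.a j), gen := ?_, zero := ?_, rel := ?_ }⟩⟩
  · intro z hz
    rw [eq_top_iff]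
    rintro e -
    obtain ⟨m, rfl⟩ := τ_surjective i M z e
    obtain ⟨c, hc⟩ := Finsupp.mem_span_range_iff_exists_finsupp.1 ((P.gen (i z) hz).ge (Submodule.mem_top (x := m)))
    rw [← hc, ← Finsupp.linearCombination_apply, τ_lc]
    refine Finsupp.mem_span_range_iff_exists_finsupp.2
      ⟨Finsupp.mapRange (Groth.L00.PullStalk.φ i z) (map_zero _) c, ?_⟩
    rw [Finsupp.linearCombination_apply]
    simp only [τ_germ]
  · intro j
    refine TopCat.Presheaf.section_ext ⟨((Scheme.Modules.pullback i).obj M).presheaf,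
      ((Scheme.Modules.pullback i).obj M).isSheaf⟩ _ _ _ fun z hz => ?_
    show ((Scheme.Modules.pullback i).obj M).presheaf.germ _ z hz _ = ((Scheme.Modules.pullback i).obj M).presheaf.germ _ z hz 0
    rw [map_zero, germ_lc]
    have h := τ_lc i M z (fun k => M.presheaf.germ W (i z) hz (P.s k))
      (Finsupp.mapRange (X'.presheaf.germ W (i z) hz).hom (map_zero _) (P.a j))
    rw [← germ_lc, P.zero j, map_zero, map_zero] at h
    simp only [τ_germ] at h
    refine Eq.trans (congrArg _ (Finsupp.ext fun k => ?_)) h.symm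
    simp only [Finsupp.mapRange_apply]
    exact (φ_germ z hz _).symm
  · intro z hz c hc
    obtain ⟨d, rfl⟩ := Finsupp.mapRange_surjective (Groth.L00.PullStalk.φ i z) (map_zero _)
      (i.stalkMap_surjective z) c
    let f := Finsupp.linearCombination (X'.presheaf.stalk (i z)) fun k => M.presheaf.germ W (i z) hz (P.s k)
    have h1 : τ i M z (f d) = 0 := by
      rw [τ_lc]
      simp only [τ_germ]
      exact hc
    obtain ⟨e, he, hfe⟩ := Alg.exists_lc_of_mem_smul _ (P.gen (i z) hz) (mem_of_τ_eq_zero i M z h1)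
    have h2 := P.rel (i z) hz (d - e) (by rw [map_sub, hfe, sub_self])
    have h3 : Finsupp.mapRange (Groth.L00.PullStalk.φ i z) (map_zero _) d =
        Finsupp.mapRange (Groth.L00.PullStalk.φ i z) (map_zero _) (d - e) := Finsupp.ext fun k => by
      rw [Finsupp.mapRange_apply, Finsupp.mapRange_apply, Finsupp.sub_apply, map_sub, RingHom.mem_ker.1 (he k),
        sub_zero]
    rw [h3]
    obtain ⟨w, hw⟩ := Finsupp.mem_span_range_iff_exists_finsupp.1 h2
    refine Finsupp.mem_span_range_iff_exists_finsupp.2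
      ⟨Finsupp.mapRange (Groth.L00.PullStalk.φ i z) (map_zero _) w, ?_⟩
    rw [← hw, Finsupp.sum_mapRange_index (by intro j; exact zero_smul _ _)]
    refine Finsupp.ext fun k => ?_
    simp only [Finsupp.sum, Finsupp.finset_sum_apply, Finsupp.mapRange_apply, map_sum, Finsupp.smul_apply,
      smul_eq_mul, map_mul]
    exact Finset.sum_congr rfl fun j _ => congrArg (_ * ·) (φ_germ z hz _).symm

theorem isFP_of_pullback (hT : ∀ x, FlatThick i M x) (hsurj : Function.Surjective i)
    (hM : CohB1.IsFP ((Scheme.Modules.pullback i).obj M)) : CohB1.IsFP M := by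
  classical
  refine isFP_of_gp fun y => ?_
  obtain ⟨x, rfl⟩ := hsurj y
  obtain ⟨U, hxU, ⟨P⟩⟩ := gp_of_isFP hM x
  cases nonempty_fintype P.I
  choose m hm using fun k => τ_surjective i M x (((Scheme.Modules.pullback i).obj M).presheaf.germ U x hxU (P.s k))
  obtain ⟨V₁, hy₁, s, hs⟩ := exists_common_lift M m
  choose b hb using fun p : P.R × P.I => i.stalkMap_surjective x (X.presheaf.germ U x hxU (P.a p.1 p.2))
  obtain ⟨V₂, hy₂, r₀, hr₀⟩ := exists_common_lift' b
  -- generators at the point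
  have hgen : ∀ (z : X) (hz : i z ∈ V₁), (∀ k, z ∈ U ∧ ∀ h : z ∈ U, τ i M z (M.presheaf.germ V₁ (i z) hz (s k)) =
      ((Scheme.Modules.pullback i).obj M).presheaf.germ U z h (P.s k)) → z ∈ U →
      Submodule.span (X'.presheaf.stalk (i z)) (Set.range fun k => M.presheaf.germ V₁ (i z) hz (s k)) = ⊤ := by
    intro z hz h hzU
    refine span_eq_top _ (hT z) ?_
    rw [show (fun k => τ i M z (M.presheaf.germ V₁ (i z) hz (s k))) =
      fun k => ((Scheme.Modules.pullback i).obj M).presheaf.germ U z hzU (P.s k) from funext fun k => (h k).2 hzU]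
    exact P.gen z hzU
  have hsx : ∀ k, τ i M x (M.presheaf.germ V₁ (i x) hy₁ (s k)) =
      ((Scheme.Modules.pullback i).obj M).presheaf.germ U x hxU (P.s k) := fun k => by rw [hs, hm]
  have hgx := hgen x hy₁ (fun k => ⟨hxU, fun _ => hsx k⟩) hxU
  -- corrections at the point
  let c : P.R → P.I →₀ X'.presheaf.stalk (i x) := fun j => Finsupp.equivFunOnFinite.symm fun k => b (j, k)
  have hc : ∀ j, τ i M x (Finsupp.linearCombination (X'.presheaf.stalk (i x))
      (fun k => M.presheaf.germ V₁ (i x) hy₁ (s k)) (c j)) = 0 := by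
    intro j
    have h0 := congrArg (((Scheme.Modules.pullback i).obj M).presheaf.germ U x hxU) (P.zero j)
    rw [germ_lc, map_zero] at h0
    rw [τ_lc]
    simp only [hsx]
    refine Eq.trans (congrArg _ (Finsupp.ext fun k => ?_)) h0
    simp only [Finsupp.mapRange_apply]
    exact hb (j, k)
  choose e he hec using fun j => Alg.exists_lc_of_mem_smul _ hgx (mem_of_τ_eq_zero i M x (hc j))
  obtain ⟨V₃, hy₃, ε, hε⟩ := exists_common_lift' fun p : P.R × P.I => e p.1 p.2
  let V : X'.Opens := V₁ ⊓ V₂ ⊓ V₃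
  have hyV : i x ∈ V := ⟨⟨hy₁, hy₂⟩, hy₃⟩
  let sV : P.I → Γ(M, V) := fun k => M.presheaf.map (homOfLE (inf_le_left.trans inf_le_left)).op (s k)
  let rV : P.R → P.I →₀ Γ(X', V) := fun j => Finsupp.equivFunOnFinite.symm fun k =>
    X'.presheaf.map (homOfLE (inf_le_left.trans inf_le_right)).op (r₀ (j, k)) -
      X'.presheaf.map (homOfLE inf_le_right).op (ε (j, k))
  have hsV : ∀ (y : X') (hy : y ∈ V) (k : P.I),
      M.presheaf.germ V y hy (sV k) = M.presheaf.germ V₁ y hy.1.1 (s k) := fun y hy k =>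
    TopCat.Presheaf.germ_res_apply M.presheaf _ y hy (s k)
  have hrx : ∀ j k, X'.presheaf.germ V (i x) hyV (rV j k) = c j k - e j k := by
    intro j k
    show X'.presheaf.germ V (i x) hyV (_ - _) = _
    rw [map_sub, TopCat.Presheaf.germ_res_apply, TopCat.Presheaf.germ_res_apply, hr₀, hε]
    rfl
  -- the relations vanish near the point
  have hz0 : ∀ j, M.presheaf.germ V (i x) hyV (Finsupp.linearCombination Γ(X', V) sV (rV j)) = 0 := by
    intro j
    rw [germ_lc, show Finsupp.mapRange (X'.presheaf.germ V (i x) hyV).hom (map_zero _) (rV j) = c j - e j from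
      Finsupp.ext fun k => (Finsupp.mapRange_apply (hf := map_zero _)).trans ((hrx j k).trans (Finsupp.sub_apply _ _ _).symm)]
    rw [funext (hsV (i x) hyV), map_sub, hec, sub_self]
  cases nonempty_fintype P.R
  choose N hN j₁ j₂ hNe using fun j => TopCat.Presheaf.germ_eq M.presheaf (i x) hyV hyV _ _
    ((hz0 j).trans (map_zero (M.presheaf.germ V (i x) hyV).hom).symm)
  obtain ⟨V₄, hy₄, h₄⟩ := exists_nhd_germ_eq (i := i) (fun k => η i M V (sV k)) P.s
    (show x ∈ i ⁻¹ᵁ V from hyV) hxU fun k => by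
      rw [← τ_germ]
      exact (congrArg (τ i M x) (hsV (i x) hyV k)).trans (hsx k)
  obtain ⟨V₅, hy₅, h₅⟩ := exists_nhd_germ_eq' (i := i) (fun p : P.R × P.I => i.app V (rV p.1 p.2))
    (fun p => P.a p.1 p.2) (show x ∈ i ⁻¹ᵁ V from hyV) hxU fun p => by
      rw [← φ_germ x hyV, hrx, map_sub, RingHom.mem_ker.1 (he p.1 p.2), sub_zero]
      exact hb p
  obtain ⟨U', hU'⟩ := exists_eq_preimage i U
  have hyN : i x ∈ Finset.univ.inf N := by
    show i x ∈ ((Finset.univ.inf N : X'.Opens) : Set X')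
    rw [Opens.coe_finset_inf, Finset.inf_eq_iInf]
    exact Set.mem_iInter₂.2 fun j _ => hN j
  let W : X'.Opens := V ⊓ U' ⊓ V₄ ⊓ V₅ ⊓ Finset.univ.inf N
  have hWV : W ≤ V := inf_le_left.trans (inf_le_left.trans (inf_le_left.trans inf_le_left))
  refine ⟨W, ⟨⟨⟨⟨hyV, hU'.ge hxU⟩, hy₄⟩, hy₅⟩, hyN⟩, ⟨{
    I := P.I, R := P.R,
    s := fun k => M.presheaf.map (homOfLE hWV).op (sV k),
    a := fun j => Finsupp.mapRange (X'.presheaf.map (homOfLE hWV).op).hom (map_zero _) (rV j),
    gen := ?_, zero := ?_, rel := ?_ }⟩⟩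
  · intro y hy
    obtain ⟨z, rfl⟩ := hsurj y
    obtain ⟨⟨⟨⟨hzV, hzU'⟩, hz₄⟩, hz₅⟩, hzN⟩ := hy
    have hzU : z ∈ U := hU'.le hzU'
    have he : ∀ k, M.presheaf.germ W (i z) ⟨⟨⟨⟨hzV, hzU'⟩, hz₄⟩, hz₅⟩, by assumption⟩
        (M.presheaf.map (homOfLE hWV).op (sV k)) = M.presheaf.germ V₁ (i z) hzV.1.1 (s k) := fun k =>
      (TopCat.Presheaf.germ_res_apply M.presheaf _ _ _ _).trans (hsV (i z) hzV k)
    rw [funext he]
    refine hgen z hzV.1.1 (fun k => ⟨hzU, fun h => ?_⟩) hzU
    rw [← h₄ z hz₄ k (show z ∈ i ⁻¹ᵁ V from hzV) h, ← τ_germ]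
    exact congrArg (τ i M z) (hsV (i z) hzV k).symm
  · intro j
    refine TopCat.Presheaf.section_ext ⟨M.presheaf, M.isSheaf⟩ _ _ _ fun y hy => ?_
    show M.presheaf.germ W y hy _ = M.presheaf.germ W y hy 0
    have hyj : y ∈ N j := Finset.inf_le (f := N) (Finset.mem_univ j) hy.2
    have hq := congrArg (M.presheaf.germ (N j) y hyj) (hNe j)
    rw [TopCat.Presheaf.germ_res_apply, TopCat.Presheaf.germ_res_apply, map_zero, germ_lc] at hq
    rw [map_zero, germ_lc]
    simp only [TopCat.Presheaf.germ_res_apply]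
    refine Eq.trans (congrArg _ (Finsupp.ext fun k => ?_)) hq
    simp only [Finsupp.mapRange_apply]
    exact TopCat.Presheaf.germ_res_apply X'.presheaf _ y hy _
  · intro y hy d hd
    obtain ⟨z, rfl⟩ := hsurj y
    obtain ⟨⟨⟨⟨hzV, hzU'⟩, hz₄⟩, hz₅⟩, hzN⟩ := hy
    have hzU : z ∈ U := hU'.le hzU'
    simp only [TopCat.Presheaf.germ_res_apply] at hd
    have hsz : ∀ k, τ i M z (M.presheaf.germ V (i z) hzV (sV k)) =
        ((Scheme.Modules.pullback i).obj M).presheaf.germ U z hzU (P.s k) := fun k => by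
      rw [τ_germ]; exact h₄ z hz₄ k hzV hzU
    have hgz : Submodule.span (X'.presheaf.stalk (i z))
        (Set.range fun k => M.presheaf.germ V (i z) hzV (sV k)) = ⊤ := by
      refine span_eq_top _ (hT z) ?_
      rw [funext hsz]
      exact P.gen z hzU
    have hmem := rel_mem _ (hT z) hgz
      (fun j => Finsupp.mapRange (X'.presheaf.germ V (i z) hzV).hom (map_zero _) (rV j)) (fun j => ?_) (fun c hc => ?_)
      d hd
    · have he : (fun j => Finsupp.mapRange (X'.presheaf.germ V (i z) hzV).hom (map_zero _) (rV j)) =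
          fun j => Finsupp.mapRange (X'.presheaf.germ W (i z) (by exact ⟨⟨⟨⟨hzV, hzU'⟩, hz₄⟩, hz₅⟩, hzN⟩)).hom
            (map_zero _) (Finsupp.mapRange (X'.presheaf.map (homOfLE hWV).op).hom (map_zero _) (rV j)) :=
        funext fun j => Finsupp.ext fun k => by
          simp only [Finsupp.mapRange_apply]
          exact (TopCat.Presheaf.germ_res_apply X'.presheaf _ _ _ _).symm
      rw [← he]
      exact hmem
    · have hzj : i z ∈ N j := Finset.inf_le (f := N) (Finset.mem_univ j) hzN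
      have hq := congrArg (M.presheaf.germ (N j) (i z) hzj) (hNe j)
      rw [TopCat.Presheaf.germ_res_apply, TopCat.Presheaf.germ_res_apply, map_zero, germ_lc] at hq
      exact hq
    · simp only [hsz] at hc
      refine Submodule.span_mono ?_ (P.rel z hzU c hc)
      rintro _ ⟨j, rfl⟩
      refine ⟨j, Finsupp.ext fun k => ?_⟩
      simp only [Finsupp.mapRange_apply]
      exact (φ_germ z hzV _).trans (h₅ z hz₅ (j, k) hzV hzU)

end Groth.L15.ThickFP
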