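import Groth.Agent.L15.ThickFP.Germs
import Groth.Agent.L15.ThickFP.Alg
import Groth.Agent.L17.ClosedPush
import Groth.Agent.L20.ModPullback
import Groth.Prelude.Def_MoreMor
import Groth.Prelude.Def_FlatMod2

/-!
Finite presentation can be tested on a first order thickening, for modules flat over the base.
-/

set_option autoImplicit false
set_option backward.isDefEq.respectTransparency false
set_option backward.isDefEq.respectTransparency.types false
set_option linter.style.haveILetI false
universe u

open CategoryTheory CategoryTheory.Limits AlgebraicGeometry TopologicalSpace Opposite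

noncomputable section

namespace Groth.L15.ThickFP

open Groth.L20.ModStalk (germ_smul)
open scoped TensorProduct

variable {X X' : Scheme.{u}} (i : X ⟶ X') (M : X'.Modules)

/-- The unit on sections. -/
abbrev η (V : X'.Opens) (m : Γ(M, V)) : Γ((Scheme.Modules.pullback i).obj M, i ⁻¹ᵁ V) :=
  ((Scheme.Modules.pullbackPushforwardAdjunction i).unit.app M).app V m

/-- The map on stalks, as a morphism. -/
def τM (x : X) : (Groth.L00.Stk.F X' (i x)).obj M ⟶
    (ModuleCat.restrictScalars (Groth.L00.PullStalk.φ i x)).obj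
      ((Groth.L00.Stk.F X x).obj ((Scheme.Modules.pullback i).obj M)) :=
  (ModuleCat.extendRestrictScalarsAdj (Groth.L00.PullStalk.φ i x)).unit.app _ ≫
    (ModuleCat.restrictScalars (Groth.L00.PullStalk.φ i x)).map ((Groth.L00.PullStalk.stalkIso i x).inv.app M)

/-- The map on stalks. -/
def τ (x : X) : M.presheaf.stalk (i x) →+ ((Scheme.Modules.pullback i).obj M).presheaf.stalk x :=
  (τM i M x).hom.toAddMonoidHom

theorem τ_smul (x : X) (r : X'.presheaf.stalk (i x)) (m : M.presheaf.stalk (i x)) :
    τ i M x (r • m) = Groth.L00.PullStalk.φ i x r • τ i M x m :=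
  (τM i M x).hom.map_smul r m

theorem hom_τ (x : X) (m : M.presheaf.stalk (i x)) :
    ((Groth.L00.PullStalk.stalkIso i x).hom.app M).hom (τ i M x m) =
      (ModuleCat.extendRestrictScalarsAdj (Groth.L00.PullStalk.φ i x)).unit.app
        ((Groth.L00.Stk.F X' (i x)).obj M) m :=
  congrArg (fun ψ => ψ.hom ((ModuleCat.extendRestrictScalarsAdj (Groth.L00.PullStalk.φ i x)).unit.app
    ((Groth.L00.Stk.F X' (i x)).obj M) m)) (Iso.inv_hom_id_app (Groth.L00.PullStalk.stalkIso i x) M)

theorem stalkIso_injective (x : X) :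
    Function.Injective ((Groth.L00.PullStalk.stalkIso i x).hom.app M).hom :=
  ((Groth.L00.PullStalk.stalkIso i x).app M).toLinearEquiv.injective

theorem τ_germ [IsClosedImmersion i] (x : X) {V : X'.Opens} (hx : i x ∈ V) (m : Γ(M, V)) :
    τ i M x (M.presheaf.germ V (i x) hx m) =
      ((Scheme.Modules.pullback i).obj M).presheaf.germ (i ⁻¹ᵁ V) x hx (η i M V m) :=
  stalkIso_injective i M x ((hom_τ i M x _).trans (Groth.L17.ClosedPush.stalkIso_unit_germ i M x hx m).symm)

theorem τ_surjective [IsClosedImmersion i] (x : X) : Function.Surjective (τ i M x) := by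
  intro z
  have key : ∀ w, ∃ m, ((Groth.L00.PullStalk.stalkIso i x).hom.app M).hom (τ i M x m) = w := by
    intro w
    letI := (Groth.L00.PullStalk.φ i x).toAlgebra
    induction w using TensorProduct.induction_on with
    | zero => exact ⟨0, by rw [map_zero]; exact map_zero _⟩
    | add a b ha hb =>
      obtain ⟨p, hp⟩ := ha
      obtain ⟨q, hq⟩ := hb
      exact ⟨p + q, by rw [map_add, ← hp, ← hq]; exact map_add _ _ _⟩
    | tmul b m =>
      obtain ⟨a, rfl⟩ := i.stalkMap_surjective x b
      refine ⟨a • m, (hom_τ i M x _).trans ?_⟩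
      refine (TensorProduct.tmul_smul a (1 : X.presheaf.stalk x) m).trans ?_
      rw [TensorProduct.smul_tmul', Algebra.smul_def, mul_one]
      rfl
  obtain ⟨m, hm⟩ := key (((Groth.L00.PullStalk.stalkIso i x).hom.app M).hom z)
  exact ⟨m, stalkIso_injective i M x hm⟩

theorem mem_of_τ_eq_zero [IsClosedImmersion i] (x : X) {m : M.presheaf.stalk (i x)} (h : τ i M x m = 0) :
    m ∈ RingHom.ker (Groth.L00.PullStalk.φ i x) • (⊤ : Submodule (X'.presheaf.stalk (i x)) _) := by
  letI := (Groth.L00.PullStalk.φ i x).toAlgebra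
  refine Alg.mem_smul_top_of_one_tmul_eq_zero (A := X'.presheaf.stalk (i x)) (B := X.presheaf.stalk x)
    (i.stalkMap_surjective x) ?_
  exact (hom_τ i M x m).symm.trans ((congrArg _ h).trans (map_zero _))

theorem τ_lc (x : X) {I : Type u} (t : I → M.presheaf.stalk (i x)) (c : I →₀ X'.presheaf.stalk (i x)) :
    τ i M x (Finsupp.linearCombination (X'.presheaf.stalk (i x)) t c) =
      Finsupp.linearCombination (X.presheaf.stalk x) (fun k => τ i M x (t k))
        (Finsupp.mapRange (Groth.L00.PullStalk.φ i x) (map_zero _) c) := by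
  induction c using Finsupp.induction_linear with
  | zero => simp only [map_zero, Finsupp.mapRange_zero]
  | add c d hc hd => simp only [map_add, Finsupp.mapRange_add (map_add _), hc, hd]
  | single k r =>
    rw [Finsupp.mapRange_single, Finsupp.linearCombination_single, Finsupp.linearCombination_single, τ_smul]

/-- The local hypothesis at a point: a square-zero ideal over which the module is flat. -/
def FlatThick (x : X) : Prop :=
  ∃ (A : Type u) (_ : CommRing A) (ψ : A →+* X'.presheaf.stalk (i x)) (J : Ideal A),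
    J * J = ⊥ ∧ J.map ψ = RingHom.ker (Groth.L00.PullStalk.φ i x) ∧
      @Module.Flat A (M.presheaf.stalk (i x)) _ _ (Module.compHom _ ψ)

variable {i M} {x : X}

theorem FlatThick.sq (h : FlatThick i M x) :
    RingHom.ker (Groth.L00.PullStalk.φ i x) * RingHom.ker (Groth.L00.PullStalk.φ i x) = ⊥ := by
  obtain ⟨A, _, ψ, J, hJ, hker, -⟩ := h
  rw [← hker, ← Ideal.map_mul, hJ, Ideal.map_bot]

variable [IsClosedImmersion i] {I R : Type u} [Finite I] (s : I → M.presheaf.stalk (i x))

theorem span_eq_top (h : FlatThick i M x)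
    (hs : Submodule.span (X.presheaf.stalk x) (Set.range fun k => τ i M x (s k)) = ⊤) :
    Submodule.span (X'.presheaf.stalk (i x)) (Set.range s) = ⊤ := by
  refine top_le_iff.1 (Alg.le_of_le_sup_smul h.sq fun m _ => ?_)
  obtain ⟨c, hc⟩ := Finsupp.mem_span_range_iff_exists_finsupp.1 (hs.ge (Submodule.mem_top (x := τ i M x m)))
  obtain ⟨d, hd⟩ := Finsupp.mapRange_surjective (Groth.L00.PullStalk.φ i x) (map_zero _)
    (i.stalkMap_surjective x) c
  refine Submodule.mem_sup.2 ⟨Finsupp.linearCombination (X'.presheaf.stalk (i x)) s d, ?_,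
    m - Finsupp.linearCombination (X'.presheaf.stalk (i x)) s d, ?_, add_sub_cancel _ _⟩
  · exact Finsupp.mem_span_range_iff_exists_finsupp.2 ⟨d, (Finsupp.linearCombination_apply _ _).symm⟩
  · refine mem_of_τ_eq_zero i M x ?_
    rw [map_sub, sub_eq_zero, τ_lc, hd, Finsupp.linearCombination_apply]
    exact hc.symm

theorem rel_mem (h : FlatThick i M x) (hs : Submodule.span (X'.presheaf.stalk (i x)) (Set.range s) = ⊤)
    (a : R → I →₀ X'.presheaf.stalk (i x))
    (ha : ∀ j, Finsupp.linearCombination (X'.presheaf.stalk (i x)) s (a j) = 0)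
    (hrel : ∀ c : I →₀ X.presheaf.stalk x,
      Finsupp.linearCombination (X.presheaf.stalk x) (fun k => τ i M x (s k)) c = 0 →
        c ∈ Submodule.span (X.presheaf.stalk x)
          (Set.range fun j => Finsupp.mapRange (Groth.L00.PullStalk.φ i x) (map_zero _) (a j)))
    (c : I →₀ X'.presheaf.stalk (i x)) (hc : Finsupp.linearCombination (X'.presheaf.stalk (i x)) s c = 0) :
    c ∈ Submodule.span (X'.presheaf.stalk (i x)) (Set.range a) := by
  have hsq := h.sq
  refine Alg.le_of_le_sup_smul hsq (K := LinearMap.ker (Finsupp.linearCombination (X'.presheaf.stalk (i x)) s))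
    (fun c hc => ?_) hc
  rw [LinearMap.mem_ker] at hc
  obtain ⟨e, he⟩ := Finsupp.mem_span_range_iff_exists_finsupp.1 (hrel
    (Finsupp.mapRange (Groth.L00.PullStalk.φ i x) (map_zero _) c) (by rw [← τ_lc, hc, map_zero]))
  obtain ⟨e, rfl⟩ := Finsupp.mapRange_surjective (Groth.L00.PullStalk.φ i x) (map_zero _)
    (i.stalkMap_surjective x) e
  let p := Finsupp.linearCombination (X'.presheaf.stalk (i x)) a e
  refine Submodule.mem_sup.2 ⟨p, Finsupp.mem_span_range_iff_exists_finsupp.2
    ⟨e, (Finsupp.linearCombination_apply _ _).symm⟩, c - p, ?_, add_sub_cancel _ _⟩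
  have hp : Finsupp.linearCombination (X'.presheaf.stalk (i x)) s p = 0 := by
    rw [show p = e.sum fun j r => r • a j from Finsupp.linearCombination_apply _ _, map_finsuppSum]
    exact Finset.sum_eq_zero fun j _ => by simp only [map_smul, ha, smul_zero]
  have hd : ∀ k, (c - p) k ∈ RingHom.ker (Groth.L00.PullStalk.φ i x) := by
    intro k
    have h1 := congrArg (fun t : I →₀ X.presheaf.stalk x => t k) he
    simp only [Finsupp.mapRange_apply] at h1
    rw [RingHom.mem_ker, Finsupp.sub_apply, map_sub, sub_eq_zero, ← h1,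
      Finsupp.sum_mapRange_index (by intro j; exact zero_smul _ _)]
    simp only [p, Finsupp.linearCombination_apply, Finsupp.sum, Finsupp.finset_sum_apply, map_sum,
      Finsupp.smul_apply, smul_eq_mul, map_mul, Finsupp.mapRange_apply]
  obtain ⟨A, _, ψ, J, -, hker, hflat⟩ := h
  letI := ψ.toAlgebra
  letI : Module A (M.presheaf.stalk (i x)) := Module.compHom _ ψ
  haveI : IsScalarTower A (X'.presheaf.stalk (i x)) (M.presheaf.stalk (i x)) :=
    IsScalarTower.of_algebraMap_smul fun _ _ => rfl
  haveI := hflat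
  have := Alg.flat_inter J s hs (c - p) (fun k => hker.ge (hd k)) (by rw [map_sub, hc, hp, sub_zero])
  exact hker ▸ this

end Groth.L15.ThickFP
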