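import Groth.Agent.L15.ThickFP.Main
import Mathlib.AlgebraicGeometry.Morphisms.Affine

/-!
The local hypothesis from a cartesian square over a first order thickening.
-/

set_option autoImplicit false
set_option backward.isDefEq.respectTransparency false
set_option linter.style.haveILetI false
universe u

open CategoryTheory CategoryTheory.Limits AlgebraicGeometry TopologicalSpace Opposite

noncomputable section

namespace Groth.L15.ThickFP

theorem ker_inr_eq_map {R S A B : CommRingCat.{u}} {f : R ⟶ S} {g : R ⟶ A} {p : S ⟶ B} {q : A ⟶ B}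
    (h : IsPushout f g p q) (hg : Function.Surjective g) :
    RingHom.ker p.hom = (RingHom.ker g.hom).map f.hom := by
  refine le_antisymm (fun s hs => ?_) (Ideal.map_le_iff_le_comap.2 fun r hr => ?_)
  · let Q := CommRingCat.of (S ⧸ (RingHom.ker g.hom).map f.hom)
    let π : S ⟶ Q := CommRingCat.ofHom (Ideal.Quotient.mk _)
    let g₀ : {φ : R →+* Q // RingHom.ker g.hom ≤ RingHom.ker φ} :=
      ⟨(f ≫ π).hom, fun r hr => Ideal.Quotient.eq_zero_iff_mem.2 (Ideal.mem_map_of_mem _ hr)⟩
    let σ : A →+* Q := RingHom.liftOfRightInverse g.hom (Function.surjInv hg) (Function.rightInverse_surjInv hg) g₀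
    have hc : f ≫ π = g ≫ CommRingCat.ofHom σ :=
      CommRingCat.hom_ext (RingHom.ext fun r => (RingHom.liftOfRightInverse_comp_apply g.hom _ (Function.rightInverse_surjInv hg) g₀ r).symm)
    have e := congrArg (fun φ : S ⟶ Q => φ s) (h.inl_desc π (CommRingCat.ofHom σ) hc)
    refine Ideal.Quotient.eq_zero_iff_mem.1 (e.symm.trans ?_)
    rw [CommRingCat.comp_apply]
    exact (congrArg _ (RingHom.mem_ker.1 hs)).trans (map_zero _)
  · rw [Ideal.mem_comap, RingHom.mem_ker]
    have e := congrArg (fun φ : R ⟶ B => φ r) h.w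
    simp only [CommRingCat.comp_apply] at e
    exact e.trans ((congrArg _ (RingHom.mem_ker.1 hr)).trans (map_zero _))

theorem flatThick_of_square {X X' T T' : Scheme.{u}} {i : X ⟶ X'} {q : X ⟶ T} {q' : X' ⟶ T'} {t : T ⟶ T'}
    (hsq : IsPullback i q q' t) (ht : MoreMor.IsFirstOrderThickening t) {M : X'.Modules}
    (hM : FlatMod.IsFlatOver q' M) [IsClosedImmersion i] (x : X) : FlatThick i M x := by
  haveI := ht.1.1
  obtain ⟨_, ⟨W, hW, rfl⟩, hxW, -⟩ :=
    T'.isBasis_affineOpens.exists_subset_of_mem_open (Set.mem_univ (q' (i x))) isOpen_univ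
  obtain ⟨_, ⟨V, hV, rfl⟩, hxV, hVW⟩ :=
    X'.isBasis_affineOpens.exists_subset_of_mem_open (a := i x) (show i x ∈ q' ⁻¹ᵁ W from hxW) (q' ⁻¹ᵁ W).2
  change X'.Opens at V
  change T'.Opens at W
  replace hW : IsAffineOpen W := hW
  replace hV : IsAffineOpen V := hV
  have eV : V ≤ q' ⁻¹ᵁ W := hVW
  let U : X.Opens := i ⁻¹ᵁ V
  have hU : IsAffineOpen U := hV.preimage i
  have hW' : IsAffineOpen (t ⁻¹ᵁ W) := hW.preimage t
  have eU : U = i ⁻¹ᵁ V ⊓ q ⁻¹ᵁ (t ⁻¹ᵁ W) := by
    refine le_antisymm (le_inf le_rfl fun z hz => ?_) inf_le_left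
    show t (q z) ∈ W
    rw [← Scheme.Hom.comp_apply, ← hsq.w, Scheme.Hom.comp_apply]
    exact eV hz
  have hpb := Scheme.Hom.isPullback_resLE hsq (UT := t ⁻¹ᵁ W) le_rfl eV (UY := U) eU
  haveI : IsAffine W.toScheme := hW
  haveI : IsAffine V.toScheme := hV
  haveI : IsAffine (t ⁻¹ᵁ W).toScheme := hW'
  have eq' : U ≤ q ⁻¹ᵁ (t ⁻¹ᵁ W) := eU.le.trans inf_le_right
  have hpo : IsPushout (q'.appLE W V eV) (t.appLE W (t ⁻¹ᵁ W) le_rfl) (i.appLE V U le_rfl)
      (q.appLE (t ⁻¹ᵁ W) U eq') := by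
    refine (isPushout_appTop_of_isPullback hpb).of_iso W.topIso V.topIso (t ⁻¹ᵁ W).topIso U.topIso ?_ ?_ ?_ ?_ <;>
    simp only [Scheme.Hom.appTop, Scheme.Hom.resLE_app_top, Category.assoc, Iso.inv_hom_id, Category.comp_id]
  simp only [Scheme.Hom.appLE_eq_app] at hpo
  have hker : RingHom.ker (i.app V).hom = (RingHom.ker (t.app W).hom).map (q'.appLE W V eV).hom := by
    rw [← Scheme.Hom.appLE_eq_app]; exact ker_inr_eq_map hpo (t.app_surjective W hW)
  let J := RingHom.ker (t.app W).hom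
  refine ⟨Γ(T', W), inferInstance, (X'.presheaf.germ V (i x) hxV).hom.comp (q'.appLE W V eV).hom, J, ?_, ?_, ?_⟩
  · have h := congrArg (fun K : T'.IdealSheafData => K.ideal ⟨W, hW⟩) ht.2
    simp only [Scheme.IdealSheafData.ideal_mul, Pi.mul_apply, Scheme.IdealSheafData.ideal_bot, Pi.bot_apply,
      Scheme.Hom.ker_apply] at h
    exact h
  · rw [← Ideal.map_map]
    refine le_antisymm (Ideal.map_le_iff_le_comap.2 (hker.symm.le.trans fun b hb => ?_)) fun b hb => ?_
    · rw [Ideal.mem_comap, RingHom.mem_ker]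
      exact (Scheme.Hom.germ_stalkMap_apply i V x hxV b).trans
        ((congrArg _ (RingHom.mem_ker.1 hb)).trans (map_zero _))
    · letI := X'.presheaf.algebra_section_stalk ⟨i x, hxV⟩
      haveI := hV.isLocalization_stalk ⟨i x, hxV⟩
      letI := X.presheaf.algebra_section_stalk ⟨x, (show x ∈ U from hxV)⟩
      haveI := hU.isLocalization_stalk ⟨x, (show x ∈ U from hxV)⟩
      obtain ⟨⟨a, s⟩, has⟩ := IsLocalization.surj (hV.primeIdealOf ⟨i x, hxV⟩).asIdeal.primeCompl b
      have hs : IsUnit (X'.presheaf.germ V (i x) hxV s.1) := IsLocalization.map_units (X'.presheaf.stalk (i x)) s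
      have ha : X.presheaf.germ U x hxV (i.app V a) = 0 := by
        refine (Scheme.Hom.germ_stalkMap_apply i V x hxV a).symm.trans ?_
        refine (congrArg (i.stalkMap x) has.symm).trans ?_
        refine ((i.stalkMap x).hom.map_mul _ _).trans ?_
        rw [RingHom.mem_ker.1 hb, zero_mul]
      obtain ⟨u, hu⟩ := (IsLocalization.map_eq_zero_iff (hU.primeIdealOf ⟨x, hxV⟩).asIdeal.primeCompl
        (X.presheaf.stalk x) (i.app V a)).1 ha
      obtain ⟨u', hu'⟩ := i.app_surjective V hV u.1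
      have hmem : u' * a ∈ RingHom.ker (i.app V).hom := by
        rw [RingHom.mem_ker, map_mul]
        exact (congrArg (· * _) hu').trans hu
      have hu1 : IsUnit (X'.presheaf.germ V (i x) hxV u') := by
        refine isUnit_of_map_unit (i.stalkMap x).hom _ ?_
        show IsUnit (i.stalkMap x (X'.presheaf.germ V (i x) hxV u'))
        rw [Scheme.Hom.germ_stalkMap_apply, hu']
        exact IsLocalization.map_units (X.presheaf.stalk x) u
      have h1 := Ideal.mem_map_of_mem (X'.presheaf.germ V (i x) hxV).hom (hker.le hmem)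
      rw [map_mul] at h1
      have h2 : X'.presheaf.germ V (i x) hxV a ∈
          (J.map (q'.appLE W V eV).hom).map (X'.presheaf.germ V (i x) hxV).hom :=
        (Ideal.unit_mul_mem_iff_mem _ hu1).1 h1
      rw [show X'.presheaf.germ V (i x) hxV a = b * X'.presheaf.germ V (i x) hxV s.1 from has.symm] at h2
      exact (Ideal.mul_unit_mem_iff_mem _ hs).1 h2
  · exact (Groth.L20.ModStalk.isFlatOverAt_iff_sections q' M hW eV hxV).1 (hM (i x))

end Groth.L15.ThickFP
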